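import Groth.Agent.H14.CovRes.Main
import Groth.Agent.H14.Sep.Main
import Groth.Agent.Lib.Regular.Descent
import Groth.Agent.Lib.QFAffine.Basic
import Groth.Agent.Lib.AlgSpMor.AffineDescent
import Mathlib.RingTheory.Flat.Localization
import Mathlib.RingTheory.Flat.TorsionFree
import Mathlib.RingTheory.DiscreteValuationRing.TFAE

/-!
Regular Noetherian schemes of dimension at most one as charts.
-/

set_option autoImplicit false
set_option backward.isDefEq.respectTransparency false
set_option backward.isDefEq.respectTransparency.types false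
set_option linter.style.haveILetI false

universe u

open CategoryTheory CategoryTheory.Limits AlgebraicGeometry TopologicalSpace
open Groth.Agent.Lib Groth.Agent.Lib.AlgStack
open FibCat (IsFibGrpd overCat toSelf)
open AlgSt (RepByAlgSpWith overMap)
open AlgSp (LocP yon)

namespace Groth.Agent.H14.CovRes

theorem isPrincipalIdealRing_of_regular (R : Type u) [CommRing R] [IsRegularLocalRing R]
    (hd : ringKrullDim R ≤ 1) : ∃ _ : IsDomain R, IsPrincipalIdealRing R := by
  have hD := Regular.Quotient.isDomain R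
  refine ⟨hD, ?_⟩
  have h := IsRegularLocalRing.spanFinrank_maximalIdeal (R := R)
  rw [← h] at hd
  have h1 : (IsLocalRing.maximalIdeal R).spanFinrank ≤ 1 := by exact_mod_cast hd
  refine ((tfae_of_isNoetherianRing_of_isLocalRing_of_isDomain R).out 0 4 rfl rfl).mpr ?_
  rcases Nat.le_one_iff_eq_zero_or_eq_one.1 h1 with h0 | h0
  · rw [(Submodule.spanFinrank_eq_zero_iff_eq_bot (IsNoetherian.noetherian _)).1 h0]
    infer_instance
  · exact ((Submodule.spanFinrank_eq_one_iff _).mp h0).1

/-- Over a ring with regular local rings of dimension at most one, submodules of flat modules are flat. -/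
theorem heredFlat_of_localizations (A : Type u) [CommRing A]
    (h : ∀ (P : Ideal A) [P.IsMaximal], IsRegularLocalRing (Localization.AtPrime P) ∧
      ringKrullDim (Localization.AtPrime P) ≤ 1) : HeredFlat A := by
  intro N _ _ hN T
  refine Module.flat_of_localized_maximal _ fun P _ => ?_
  obtain ⟨h1, h2⟩ := h P
  obtain ⟨_, _⟩ := isPrincipalIdealRing_of_regular (Localization.AtPrime P) h2
  suffices key : Module.Flat (Localization.AtPrime P) (LocalizedModule P.primeCompl T) from
    (Module.flat_iff_of_isLocalization (Localization.AtPrime P) P.primeCompl _).1 key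
  let i := LocalizedModule.map P.primeCompl T.subtype
  have hi : Function.Injective i := LocalizedModule.map_injective P.primeCompl _ T.injective_subtype
  have : Module.Flat (Localization.AtPrime P) (LocalizedModule P.primeCompl N) := by
    refine (Module.flat_iff_of_isLocalization (Localization.AtPrime P) P.primeCompl _).2 ?_
    have := Module.Flat.of_isLocalizedModule (Localization.AtPrime P) P.primeCompl (LocalizedModule.mkLinearMap P.primeCompl N)
    exact (Module.flat_iff_of_isLocalization (Localization.AtPrime P) P.primeCompl _).1 this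
  have ht : Module.IsTorsionFree (Localization.AtPrime P) (LocalizedModule P.primeCompl N) := by
    rw [Submodule.isTorsionFree_iff_torsion_eq_bot]
    exact Module.Flat.torsion_eq_bot
  have := hi.moduleIsTorsionFree i (map_smul _)
  rw [Module.Flat.flat_iff_torsion_eq_bot_of_isBezout, ← Submodule.isTorsionFree_iff_torsion_eq_bot]
  exact this

/-- The condition on a scheme. -/
def IsCurve (X : Scheme.{u}) : Prop :=
  IsLocallyNoetherian X ∧ ∀ x : X, IsRegularLocalRing (X.presheaf.stalk x) ∧ ringKrullDim (X.presheaf.stalk x) ≤ 1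

theorem IsCurve.heredFlat {X : Scheme.{u}} [IsAffine X] (h : IsCurve X) :
    IsNoetherianRing Γ(X, ⊤) ∧ HeredFlat Γ(X, ⊤) := by
  haveI := h.1
  refine ⟨IsLocallyNoetherian.component_noetherian ⟨⊤, isAffineOpen_top X⟩,
    heredFlat_of_localizations _ fun P _ => ?_⟩
  let hU := isAffineOpen_top X
  let p : PrimeSpectrum Γ(X, ⊤) := ⟨P, inferInstance⟩
  let x : X := hU.fromSpec p
  obtain ⟨h1, h2⟩ := h.2 x
  letI := TopCat.Presheaf.algebra_section_stalk X.presheaf (⟨x, trivial⟩ : (⊤ : X.Opens))
  haveI : IsLocalization.AtPrime (X.presheaf.stalk x) P := hU.isLocalization_stalk' p trivial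
  let e := (IsLocalization.algEquiv P.primeCompl (X.presheaf.stalk x) (Localization.AtPrime P)).toRingEquiv
  exact ⟨IsRegularLocalRing.of_ringEquiv e, (ringKrullDim_eq_of_ringEquiv e).symm ▸ h2⟩

theorem isAffineHom_of_isAffine_source {X Y : Scheme.{u}} [IsLocallyNoetherian Y]
    (hdim : topologicalKrullDim Y ≤ 1) [IsAffine X] (f : X ⟶ Y) : IsAffineHom f := by
  have hd : IsAffineHom (pullback.diagonal (terminal.from Y)) := by
    refine isAffineHom_diagonal_iff.2 fun _ _ V₁ _ V₂ _ h₁ h₂ => ?_
    have : IsAffineHom V₁.ι := Lib.QFAffine.isAffineHom_ι_of_dim (Lib.QFAffine.stalk_dim_le hdim) V₁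
    have h : IsAffineOpen (V₁.ι ⁻¹ᵁ V₂) := h₂.preimage V₁.ι
    have := h.image_of_isOpenImmersion V₁.ι
    rwa [Scheme.Hom.image_preimage_eq_opensRange_inf, Scheme.Opens.opensRange_ι] at this
  have := (MorphismProperty.hasOfPostcompProperty_iff_le_diagonal (P := @IsAffineHom.{u})
    (Q := MorphismProperty.diagonal @IsAffineHom.{u})).2 le_rfl
  refine MorphismProperty.of_postcomp (W := @IsAffineHom.{u})
    (W' := MorphismProperty.diagonal @IsAffineHom.{u}) f (terminal.from Y) hd ?_
  exact isAffineHom_of_isAffine _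

/-- A Noetherian regular scheme of dimension at most one is covered by such an affine one. -/
theorem exists_affine_cover (X : Scheme.{u}) [IsNoetherian X]
    (hreg : ∀ x : X, IsRegularLocalRing (X.presheaf.stalk x)) (hdim : topologicalKrullDim X ≤ 1) :
    ∃ (Y : Scheme.{u}) (j : Y ⟶ X), IsAffine Y ∧ IsAffineHom j ∧ Flat j ∧ Surjective j ∧ IsCurve Y := by
  let 𝒰 := X.affineCover.finiteSubcover
  haveI : ∀ i, IsAffine (𝒰.X i) := fun i => inferInstanceAs (IsAffine (X.affineCover.X _))
  let j : (∐ fun i => 𝒰.X i) ⟶ X := Sigma.desc fun i => 𝒰.f i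
  haveI : IsAffine (∐ fun i => 𝒰.X i) := inferInstance
  have hs : ∀ y, ∃ i z, Sigma.ι (fun i => 𝒰.X i) i z = y := fun y => by
    obtain ⟨i, z, hz⟩ := (sigmaOpenCover fun i => 𝒰.X i).exists_eq y
    exact ⟨i, z, hz⟩
  have hfl : Flat j := IsZariskiLocalAtSource.sigmaDesc (P := @Flat) fun i => inferInstance
  refine ⟨_, j, inferInstance, isAffineHom_of_isAffine_source hdim j, hfl, ⟨fun x => ?_⟩, ?_, fun y => ?_⟩
  · obtain ⟨i, z, hz⟩ := 𝒰.exists_eq x
    exact ⟨Sigma.ι (fun i => 𝒰.X i) i z, by rw [← Scheme.Hom.comp_apply, Sigma.ι_desc]; exact hz⟩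
  · haveI : ∀ i, IsLocallyNoetherian (𝒰.X i) := fun i => isLocallyNoetherian_of_isOpenImmersion (𝒰.f i)
    exact (isLocallyNoetherian_iff_openCover (sigmaOpenCover fun i => 𝒰.X i)).2
      (fun i => inferInstanceAs (IsLocallyNoetherian (𝒰.X i)))
  · obtain ⟨i, z, rfl⟩ := hs y
    let e := (asIso (Scheme.Hom.stalkMap (𝒰.f i) z)).commRingCatIsoToRingEquiv
    let e' := (asIso (Scheme.Hom.stalkMap (Sigma.ι (fun i => 𝒰.X i) i) z)).commRingCatIsoToRingEquiv
    haveI := hreg (𝒰.f i z)
    let e'' := e.trans e'.symm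
    exact ⟨IsRegularLocalRing.of_ringEquiv e'', (ringKrullDim_eq_of_ringEquiv e'') ▸
      Lib.QFAffine.stalk_dim_le hdim (𝒰.f i z)⟩

/-- The resolution property of a stack with a chart by a regular Noetherian scheme of dimension at most one. -/
theorem resolution_of_curve {S : Scheme.{u}} {𝒳 : AlgSt.Cat S} (hX : IsFibGrpd 𝒳.p) {U : Over S}
    [IsNoetherian U.left] (hreg : ∀ x : U.left, IsRegularLocalRing (U.left.presheaf.stalk x))
    (hdim : topologicalKrullDim U.left ≤ 1) (u : overCat U ⥤ᵇ 𝒳)
    (hua : RepByAlgSpWith AlgSp.IsAffineMor u) (huf : RepByAlgSpWith (LocP @Flat) u)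
    (hus : RepByAlgSpWith AlgSp.IsSurjectiveMor u) :
    (∀ F : StMod.QCoh 𝒳, F.obj.IsFinType →
        ∃ (E : StMod.QCoh 𝒳) (q : E ⟶ F), E.obj.IsLocFree ∧ E.obj.IsFinType ∧ StMod.Mod.IsSurj q.hom) ∧
      (∀ (M N : StMod.QCoh 𝒳) (a b : M ⟶ N),
        (∀ E : StMod.QCoh 𝒳, E.obj.IsLocFree → E.obj.IsFinType → ∀ φ : E ⟶ M, φ ≫ a = φ ≫ b) → a = b) := by
  obtain ⟨Y, j, hY, hja, hjf, hjs, hc⟩ := exists_affine_cover U.left hreg hdim
  let U' : Over S := Over.mk (j ≫ U.hom)
  let h : U' ⟶ U := Over.homMk j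
  haveI : IsAffineHom h.left := hja
  haveI : Surjective h.left := hjs
  have h1 : RepByAlgSpWith AlgSp.IsAffineMor (overMap h) :=
    Chart.Basic.rep_overMap h (fun _ _ _ _ a b c d p q r s sq ha => Sep.Main.good_affine.bc a b c d p q r s sq ha)
      (AlgSpMor.AffineDescent.isAffineMor_iff.2 ((AlgSp.repWith_yon_map_iff _ _).2 hja))
  let D : Data 𝒳 :=
    { hX := hX
      U := U'
      affU := hY
      u := BasedFunctor.comp (overMap h) u
      haff := Sep.Main.Good.repComp (𝒳 := overCat U') (𝒴 := overCat U) Sep.Main.good_affine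
        (Yoneda.isFibGrpd_overCat _) (Yoneda.isFibGrpd_overCat _) h1 hua
      hfl := IsAlgFp.comp_locP SourceDescent.Scheme.flat (Yoneda.isFibGrpd_overCat _) (Yoneda.isFibGrpd_overCat _)
        (Chart.Basic.rep_overMap_locP h SourceDescent.Scheme.flat hjf) huf
      hsurj := IsAlgFp.comp_surjective (Yoneda.isFibGrpd_overCat _) (Yoneda.isFibGrpd_overCat _)
        (Chart.Basic.rep_overMap_surjective h) hus }
  have hξ : IsCurve (StMod.sch 𝒳 D.ξ) := by
    rw [show StMod.sch 𝒳 D.ξ = Y from congrArg (fun o : Over S => o.left) (D.u.w_obj (Over.mk (𝟙 U')))]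
    exact hc
  obtain ⟨h2, h3⟩ := hξ.heredFlat
  haveI := h2
  exact resolution D h3

end Groth.Agent.H14.CovRes
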