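import Groth.Agent.H14.CovRes.Geom
import Groth.Agent.H14.GenFam.Psi

/-!
An affine, flat, surjective chart by an affine scheme: the pullback functor and the chart it gives.
-/

set_option autoImplicit false
set_option backward.isDefEq.respectTransparency false
set_option backward.isDefEq.respectTransparency.types false
set_option linter.style.haveILetI false

universe u

open CategoryTheory CategoryTheory.Limits AlgebraicGeometry Opposite
open StMod (sch bmap fibCat baseOver)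
open Groth.Agent.Lib Groth.Agent.Lib.AlgStack
open Groth.Agent.H14.GenFam
open Groth.Agent.H14.ModDesc
open FibCat (IsFibGrpd overCat)
open AlgSt (RepByAlgSpWith)
open AlgSp (LocP)

namespace Groth.Agent.H14.CovRes

variable {S : Scheme.{u}}

/-- An affine, flat, surjective chart by an affine scheme. -/
structure Data (𝒳 : AlgSt.Cat S) where
  hX : IsFibGrpd 𝒳.p
  /-- the scheme -/
  U : Over S
  affU : IsAffine U.left
  /-- the chart -/
  u : overCat U ⥤ᵇ 𝒳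
  haff : RepByAlgSpWith AlgSp.IsAffineMor u
  hfl : RepByAlgSpWith (LocP @Flat) u
  hsurj : RepByAlgSpWith AlgSp.IsSurjectiveMor u

attribute [instance] Data.affU

namespace Data

variable {𝒳 : AlgSt.Cat S} (D : Data 𝒳)

theorem hW : IsFibGrpd (overCat D.U).p := Yoneda.isFibGrpd_overCat D.U

/-- The final object over an object. -/
noncomputable def pt (o : 𝒳.obj) : (overCat D.U).obj := (UB.AffComp.up D.hW D.hX D.haff o).left

/-- The pullback of an object to the chart. -/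
noncomputable def h (o : 𝒳.obj) : 𝒳.obj := D.u.obj (D.pt o)

/-- The projection to an object. -/
noncomputable def ε (o : 𝒳.obj) : D.h o ⟶ o := (UB.AffComp.up D.hW D.hX D.haff o).hom

/-- The object of the chart. -/
def ξ : 𝒳.obj := D.u.obj (Over.mk (𝟙 D.U))

/-- The projection to the chart. -/
noncomputable def g (o : 𝒳.obj) : D.h o ⟶ D.ξ := D.u.map (Yoneda.toId (D.pt o))

/-- The pullback of a morphism. -/
noncomputable def hmap {o' o : 𝒳.obj} (e : o' ⟶ o) : D.h o' ⟶ D.h o :=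
  D.u.map (UB.AffComp.upMap D.hW D.hX D.haff e)

theorem hmap_ε {o' o : 𝒳.obj} (e : o' ⟶ o) : D.hmap e ≫ D.ε o = D.ε o' ≫ e :=
  UB.AffComp.upMap_w D.hW D.hX D.haff e

theorem hmap_g {o' o : 𝒳.obj} (e : o' ⟶ o) : D.hmap e ≫ D.g o = D.g o' := by
  refine (D.u.toFunctor.map_comp _ _).symm.trans (congrArg D.u.map ?_)
  exact Over.OverMorphism.ext (Over.w (UB.AffComp.upMap D.hW D.hX D.haff e))

theorem hmap_id (o : 𝒳.obj) : D.hmap (𝟙 o) = 𝟙 _ := by
  rw [hmap, UB.AffComp.upMap_id]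
  exact D.u.toFunctor.map_id _

theorem hmap_comp {o'' o' o : 𝒳.obj} (e' : o'' ⟶ o') (e : o' ⟶ o) : D.hmap (e' ≫ e) = D.hmap e' ≫ D.hmap e := by
  rw [hmap, UB.AffComp.upMap_comp]
  exact D.u.toFunctor.map_comp _ _

instance affξ : IsAffine (sch 𝒳 D.ξ) := isAffine_obj D.affU D.u

instance affh (o : 𝒳.obj) [IsAffine (sch 𝒳 o)] : IsAffine (sch 𝒳 (D.h o)) := by
  haveI := UB.AffComp.isAffine_up D.hW D.hX D.haff o inferInstance
  show IsAffine (𝒳.p.obj (D.u.obj (D.pt o))).left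
  rw [D.u.w_obj]
  assumption

theorem bmap_ε (o : 𝒳.obj) :
    bmap 𝒳 (D.ε o) = eqToHom (StMod.sch_obj_eq D.u (D.pt o)) ≫ UB.AffComp.eps D.hW D.hX D.haff o := by
  show _ = _ ≫ (baseOver D.u (D.pt o) (D.ε o)).left
  rw [StMod.baseOver, Over.comp_left, Over.eqToHom_left, ← Category.assoc, eqToHom_trans, eqToHom_refl,
    Category.id_comp]

theorem flat_ε (o : 𝒳.obj) : Flat (bmap 𝒳 (D.ε o)) := by
  have := (flat_surjective_eps D.hW D.hX D.haff D.hfl D.hsurj o).1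
  rw [bmap_ε]
  infer_instance

theorem surj_ε (o : 𝒳.obj) : Surjective (bmap 𝒳 (D.ε o)) := by
  have := (flat_surjective_eps D.hW D.hX D.haff D.hfl D.hsurj o).2
  rw [bmap_ε]
  infer_instance

theorem isPullback_hmap {o' o : 𝒳.obj} (e : o' ⟶ o) :
    IsPullback (bmap 𝒳 (D.hmap e)) (bmap 𝒳 (D.ε o')) (bmap 𝒳 (D.ε o)) (bmap 𝒳 e) := by
  refine (UB.AffComp.isPullback_upMap D.hW D.hX D.haff e).of_iso
    (eqToIso (StMod.sch_obj_eq D.u (D.pt o')).symm) (eqToIso (StMod.sch_obj_eq D.u (D.pt o)).symm)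
    (Iso.refl _) (Iso.refl _) ?_ ?_ ?_ ?_
  · haveI : 𝒳.p.IsHomLift (UB.AffComp.upMap D.hW D.hX D.haff e).left (D.hmap e) :=
      Yoneda.map_isHomLift D.u _
    have h1 := IsHomLift.fac' 𝒳.p (UB.AffComp.upMap D.hW D.hX D.haff e).left (D.hmap e)
    show _ = _ ≫ CommaMorphism.left (𝒳.p.map (D.hmap e))
    rw [h1]
    simp
    rfl
  · rw [bmap_ε, Iso.refl_hom, Category.comp_id, eqToIso.hom, ← Category.assoc, eqToHom_trans, eqToHom_refl,
      Category.id_comp]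
  · rw [bmap_ε, Iso.refl_hom, Category.comp_id, eqToIso.hom, ← Category.assoc, eqToHom_trans, eqToHom_refl,
      Category.id_comp]
  · simp

theorem flat_hmap {o' o : 𝒳.obj} (e : o' ⟶ o) (he : Flat (bmap 𝒳 e)) : Flat (bmap 𝒳 (D.hmap e)) :=
  MorphismProperty.of_isPullback (D.isPullback_hmap e).flip he

theorem isPushout_hmap {o' o : 𝒳.obj} [IsAffine (sch 𝒳 o')] [IsAffine (sch 𝒳 o)] (e : o' ⟶ o) :
    IsPushout (bmap 𝒳 e).appTop (bmap 𝒳 (D.ε o)).appTop (bmap 𝒳 (D.ε o')).appTop (bmap 𝒳 (D.hmap e)).appTop := by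
  haveI : IsAffineHom (bmap 𝒳 (D.ε o)) := isAffineHom_of_isAffine _
  haveI : IsAffineHom (bmap 𝒳 (D.ε o')) := isAffineHom_of_isAffine _
  have := Groth.Agent.Lib.HilbD.Content.isPushout_appLE (D.isPullback_hmap e) ⟨⊤, isAffineOpen_top _⟩
    ⟨⊤, isAffineOpen_top _⟩ le_top le_top
  simp only [Scheme.Hom.appTop, Scheme.Hom.app_eq_appLE] at this ⊢
  exact this

/-! ### The relation -/

theorem exists_isoObj {o : 𝒳.obj} (b : o ⟶ D.ξ) :
    ∃ (v : (overCat D.U).obj) (i : o ≅ D.u.obj v), i.hom ≫ D.u.map (Yoneda.toId v) = b := by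
  let v : (overCat D.U).obj := Over.mk (𝒳.p.map b ≫ eqToHom (D.u.w_obj (Over.mk (𝟙 D.U))))
  obtain ⟨i, -, hi⟩ := exists_isoOver D.hX b (D.u.map (Yoneda.toId v)) (D.u.w_obj v).symm (by
    haveI := Yoneda.map_toId_isHomLift D.u v
    rw [IsHomLift.fac' 𝒳.p v.hom (D.u.map (Yoneda.toId v))]
    simp [v])
  exact ⟨v, i, hi⟩

theorem exists_pair {o : 𝒳.obj} (a b : o ⟶ D.ξ) : ∃ c : o ⟶ D.h D.ξ, c ≫ D.ε D.ξ = a ∧ c ≫ D.g D.ξ = b := by
  obtain ⟨v, i, hi⟩ := D.exists_isoObj b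
  let k := UB.AffComp.toUp D.hW D.hX D.haff (CostructuredArrow.mk (i.inv ≫ a))
  refine ⟨i.hom ≫ D.u.map k.left, ?_, ?_⟩
  · rw [Category.assoc]
    refine (congrArg (i.hom ≫ ·) (CostructuredArrow.w k)).trans ?_
    exact i.hom_inv_id_assoc a
  · rw [Category.assoc, ← hi]
    refine congrArg (i.hom ≫ ·) ((D.u.toFunctor.map_comp _ _).symm.trans (congrArg D.u.map ?_))
    exact Over.OverMorphism.ext (Over.w k.left)

theorem exists_lift_hom {o : 𝒳.obj} {v : (overCat D.U).obj} (i : o ≅ D.u.obj v) (x : 𝒳.obj) (c : o ⟶ D.h x)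
    (hc : c ≫ D.g x = i.hom ≫ D.u.map (Yoneda.toId v)) :
    ∃ α : v ⟶ D.pt x, c = i.hom ≫ D.u.map α := by
  let β : v.left ⟶ (D.pt x).left :=
    eqToHom (D.u.w_obj v).symm ≫ 𝒳.p.map (i.inv ≫ c) ≫ eqToHom (D.u.w_obj (D.pt x))
  have hg : (i.inv ≫ c) ≫ D.g x = D.u.map (Yoneda.toId v) := by
    rw [Category.assoc, hc, Iso.inv_hom_id_assoc]
  have hw : β ≫ (D.pt x).hom = v.hom := by
    haveI := Yoneda.map_toId_isHomLift D.u v
    haveI := Yoneda.map_toId_isHomLift D.u (D.pt x)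
    have h1 := congrArg 𝒳.p.map hg
    rw [Functor.map_comp, IsHomLift.fac' 𝒳.p v.hom (D.u.map (Yoneda.toId v)),
      show 𝒳.p.map (D.g x) = _ from IsHomLift.fac' 𝒳.p (D.pt x).hom (D.u.map (Yoneda.toId (D.pt x)))] at h1
    have h2 := congrArg (fun q => eqToHom (D.u.w_obj v).symm ≫ q ≫ eqToHom (D.u.w_obj (Over.mk (𝟙 D.U)))) h1
    simpa [β] using h2
  let α : v ⟶ D.pt x := Over.homMk β hw
  refine ⟨α, (Iso.inv_comp_eq i).1 (BasedBasic.hom_eq_of_comp_eq D.hX (D.g x) ?_ ?_)⟩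
  · haveI := Yoneda.map_isHomLift D.u α
    show _ = 𝒳.p.map (D.u.map α)
    rw [IsHomLift.fac' 𝒳.p α.left (D.u.map α)]
    simp [α, β]
  · rw [hg]
    exact (congrArg D.u.map (Over.OverMorphism.ext hw.symm :
      Yoneda.toId v = α ≫ Yoneda.toId (D.pt x))).trans (D.u.toFunctor.map_comp _ _)

theorem hom_ext {o : 𝒳.obj} {a b : o ⟶ D.h D.ξ} (hp : a ≫ D.ε D.ξ = b ≫ D.ε D.ξ)
    (hq : a ≫ D.g D.ξ = b ≫ D.g D.ξ) : a = b := by
  obtain ⟨v, i, hi⟩ := D.exists_isoObj (a ≫ D.g D.ξ)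
  obtain ⟨α, rfl⟩ := D.exists_lift_hom i D.ξ a hi.symm
  obtain ⟨α', rfl⟩ := D.exists_lift_hom i D.ξ b (hq.symm.trans hi.symm)
  rw [Category.assoc, Category.assoc] at hp
  rw [UB.AffComp.left_up D.hW D.hX D.haff α α' ((cancel_epi i.hom).1 hp)]

/-- The exchange of the two projections. -/
theorem exists_swap : ∃ σ : D.h D.ξ ≅ D.h D.ξ, σ.hom ≫ D.ε D.ξ = D.g D.ξ := by
  obtain ⟨c, hc₁, hc₂⟩ := D.exists_pair (D.g D.ξ) (D.ε D.ξ)
  have : c ≫ c = 𝟙 _ := D.hom_ext (by rw [Category.assoc, hc₁, hc₂, Category.id_comp])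
    (by rw [Category.assoc, hc₂, hc₁, Category.id_comp])
  exact ⟨⟨c, c, this, this⟩, hc₁⟩

theorem flat_g : Flat (bmap 𝒳 (D.g D.ξ)) := by
  obtain ⟨σ, hσ⟩ := D.exists_swap
  haveI : IsIso (bmap 𝒳 σ.hom) := inferInstanceAs (IsIso ((Over.forget S).map (𝒳.p.map σ.hom)))
  have := D.flat_ε D.ξ
  rw [← hσ, StMod.bmap_comp]
  infer_instance

/-- The cover of an object by its pullback to the chart. -/
noncomputable def cover (o : 𝒳.obj) [IsAffine (sch 𝒳 o)] : Cover o (Fin 1) where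
  E _ := D.h o
  aff _ := inferInstance
  e _ := D.ε o
  flat _ := D.flat_ε o
  surj x := ⟨0, (D.surj_ε o).surj x⟩

/-- The chart. -/
noncomputable def chart : Chart2 𝒳 where
  x := D.ξ
  w := D.h D.ξ
  affx := inferInstance
  affw := inferInstance
  p := D.ε D.ξ
  q := D.g D.ξ
  cover o ho := ⟨1, D.cover o, fun _ => ⟨D.g o⟩⟩
  overlap o ho a b := by
    refine ⟨PUnit.{u + 1}, inferInstance, ⟨fun _ => o, fun _ => ho, fun _ => 𝟙 o, fun _ => ?_, fun x => ?_⟩, fun _ => ?_⟩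
    · rw [StMod.bmap_id]; infer_instance
    · exact ⟨⟨⟩, x, by rw [StMod.bmap_id]; rfl⟩
    · obtain ⟨c, h₁, h₂⟩ := D.exists_pair a b
      exact ⟨c, h₁.trans (Category.id_comp a).symm, h₂.trans (Category.id_comp b).symm⟩
  flat := D.flat_ε D.ξ
  w2 := D.h D.ξ
  affw2 := inferInstance
  k := 𝟙 _
  k' := 𝟙 _
  hp := rfl
  hq := rfl
  flat2 := by rw [Category.id_comp]; exact D.flat_ε D.ξ
  overlap2 o ho a b hp hq := by
    refine ⟨PUnit.{u + 1}, ⟨fun _ => o, fun _ => ho, fun _ => 𝟙 o, fun _ => ?_, fun x => ?_⟩, fun _ => ?_⟩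
    · rw [StMod.bmap_id]; infer_instance
    · exact ⟨⟨⟩, x, by rw [StMod.bmap_id]; rfl⟩
    · cases D.hom_ext hp hq
      exact ⟨a, by simp, by simp⟩

end Data

end Groth.Agent.H14.CovRes
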