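import Groth.Agent.H14.CovRes.Data
import Groth.Agent.H14.UB.Coherent
import Groth.Agent.H14.GenFam.ExtEval

/-!
Functors of modules on affine objects: pullback to a chart, preimages, free ones, combinations.
-/

set_option autoImplicit false
set_option backward.isDefEq.respectTransparency false
set_option backward.isDefEq.respectTransparency.types false
set_option linter.style.haveILetI false

universe u

open CategoryTheory CategoryTheory.Limits AlgebraicGeometry Opposite TensorProduct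
open StMod (sch bmap)
open Groth.Agent.Lib Groth.Agent.Lib.AlgStack
open Groth.Agent.H14.ModDesc
open Groth.Agent.H14.GenFam (FlatFun Cover bc_induction eqΦ mapHom isBC_mapHom)
open Groth.Agent.H14.MultiExt (FlatHom)

namespace Groth.Agent.H14.CovRes

variable {S : Scheme.{u}} {𝒳 : AlgSt.Cat S}

/-! ### Preimages -/

section Pre

variable {Φ Φ' Ψ : FlatFun 𝒳} (ψ : FlatHom Φ Ψ) (η : FlatHom Φ' Ψ)

/-- The preimage at an object. -/
def preSub (o : 𝒳.obj) [IsAffine (sch 𝒳 o)] : Submodule Γ(sch 𝒳 o, ⊤) (Φ.obj o) :=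
  (LinearMap.range (η.app o)).comap (ψ.app o)

theorem res_mem {o' o : 𝒳.obj} [IsAffine (sch 𝒳 o')] [IsAffine (sch 𝒳 o)] (e : o' ⟶ o) {y : Φ.obj o}
    (hy : y ∈ preSub ψ η o) : Φ.res e y ∈ preSub ψ η o' := by
  obtain ⟨x, hx⟩ := LinearMap.mem_range.1 hy
  exact ⟨Φ'.res e x, by rw [η.natural, hx, ψ.natural]⟩

/-- The restriction of the preimage. -/
noncomputable def preRes {o' o : 𝒳.obj} [IsAffine (sch 𝒳 o')] [IsAffine (sch 𝒳 o)] (e : o' ⟶ o) :
    preSub ψ η o →+ preSub ψ η o' :=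
  AddMonoidHom.mk' (fun y => ⟨Φ.res e y.1, res_mem ψ η e y.2⟩)
    fun a b => Subtype.ext (map_add (Φ.res e) a.1 b.1)

theorem isSL_preRes {o' o : 𝒳.obj} [IsAffine (sch 𝒳 o')] [IsAffine (sch 𝒳 o)] (e : o' ⟶ o) :
    IsSL (bmap 𝒳 e).appTop.hom (preRes ψ η e) := fun r y => Subtype.ext (Φ.sl e r y.1)

set_option maxHeartbeats 800000 in
theorem isBC_preRes {o' o : 𝒳.obj} [IsAffine (sch 𝒳 o')] [IsAffine (sch 𝒳 o)] (e : o' ⟶ o)
    (he : Flat (bmap 𝒳 e)) : IsBC (bmap 𝒳 e).appTop.hom (preRes ψ η e) := by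
  let := (bmap 𝒳 e).appTop.hom.toAlgebra
  have : Module.Flat Γ(sch 𝒳 o, ⊤) Γ(sch 𝒳 o', ⊤) := flat_appTop (bmap 𝒳 e)
  obtain ⟨hs, hb⟩ := (isBC_iff rfl).1 (Φ.bc e he)
  obtain ⟨hs', hb'⟩ := (isBC_iff rfl).1 (Φ'.bc e he)
  obtain ⟨hsΨ, hbΨ⟩ := (isBC_iff rfl).1 (Ψ.bc e he)
  let A := Γ(sch 𝒳 o, ⊤)
  let B := Γ(sch 𝒳 o', ⊤)
  let ι := (preSub ψ η o).subtype
  have key : ∀ t, (bcMap A B (preRes ψ η e) (isSL_preRes ψ η e) t).1 = bcMap A B (Φ.res e) hs (ι.lTensor B t) :=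
    fun t => by
      induction t with
      | zero => simp
      | tmul c y =>
        rw [bcMap_tmul, LinearMap.lTensor_tmul, bcMap_tmul]
        rfl
      | add a b ha hb => simp only [map_add, Submodule.coe_add, ha, hb]
  have nψ : ∀ t, bcMap A B (Ψ.res e) hsΨ ((ψ.app o).lTensor B t) = ψ.app o' (bcMap A B (Φ.res e) hs t) :=
    fun t => by
      induction t with
      | zero => simp
      | tmul c y => rw [LinearMap.lTensor_tmul, bcMap_tmul, bcMap_tmul, map_smul, ψ.natural]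
      | add a b ha hb => simp only [map_add, ha, hb]
  have nη : ∀ t, bcMap A B (Ψ.res e) hsΨ ((η.app o).lTensor B t) = η.app o' (bcMap A B (Φ'.res e) hs' t) :=
    fun t => by
      induction t with
      | zero => simp
      | tmul c y => rw [LinearMap.lTensor_tmul, bcMap_tmul, bcMap_tmul, map_smul, η.natural]
      | add a b ha hb => simp only [map_add, ha, hb]
  refine (isBC_iff rfl).2 ⟨isSL_preRes ψ η e, fun a b h => ?_, fun y => ?_⟩
  · exact (hb.injective.comp (Module.Flat.lTensor_preserves_injective_linearMap (M := B)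
      ι (Submodule.injective_subtype _))) ((key a).symm.trans ((congrArg Subtype.val h).trans (key b)))
  · obtain ⟨z, hz⟩ := hb.2 y.1
    obtain ⟨x, hx⟩ := LinearMap.mem_range.1 y.2
    obtain ⟨w, rfl⟩ := hb'.2 x
    let q := (LinearMap.range (η.app o)).mkQ
    have h1 : (ψ.app o).lTensor B z = (η.app o).lTensor B w := hbΨ.1 (by rw [nψ, nη, hz, hx])
    have h2 : (q ∘ₗ ψ.app o).lTensor B z = 0 := by
      rw [LinearMap.lTensor_comp, LinearMap.comp_apply, h1, ← LinearMap.comp_apply, ← LinearMap.lTensor_comp,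
        show q ∘ₗ η.app o = 0 from LinearMap.range_mkQ_comp _, LinearMap.lTensor_zero, LinearMap.zero_apply]
    have hex : Function.Exact ι (q ∘ₗ ψ.app o) := by
      rw [LinearMap.exact_iff, LinearMap.ker_comp, Submodule.ker_mkQ, Submodule.range_subtype]
      rfl
    obtain ⟨t, rfl⟩ := ((Module.Flat.lTensor_exact B hex) z).1 h2
    exact ⟨t, Subtype.ext ((key t).trans hz)⟩

/-- The preimage. -/
noncomputable def preFlat : FlatFun 𝒳 where
  obj o := preSub ψ η o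
  res := fun {_ _} _ _ e => preRes ψ η e
  sl := fun {_ _} _ _ e => isSL_preRes ψ η e
  res_id o _ y := Subtype.ext (Φ.res_id o y.1)
  res_comp := fun {_ _ _} _ _ _ e' e y => Subtype.ext (Φ.res_comp e' e y.1)
  bc := fun {_ _} _ _ e he => isBC_preRes ψ η e he

/-- The inclusion of the preimage. -/
noncomputable def preIncl : FlatHom (preFlat ψ η) Φ where
  app o _ := (preSub ψ η o).subtype
  natural := fun {_ _} _ _ _ _ => rfl

theorem exists_preProj (hη : ∀ (o : 𝒳.obj) [IsAffine (sch 𝒳 o)], Function.Injective (η.app o)) :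
    ∃ p : FlatHom (preFlat ψ η) Φ', ∀ (o : 𝒳.obj) [IsAffine (sch 𝒳 o)] (y : preSub ψ η o),
      η.app o (p.app o y) = ψ.app o y.1 := by
  let L : ∀ (o : 𝒳.obj) [IsAffine (sch 𝒳 o)], preSub ψ η o →ₗ[Γ(sch 𝒳 o, ⊤)] Φ'.obj o := fun o _ =>
    (LinearEquiv.ofInjective (η.app o) (hη o)).symm.toLinearMap ∘ₗ
      LinearMap.codRestrict _ ((ψ.app o) ∘ₗ (preSub ψ η o).subtype) (fun y => y.2)
  have hL : ∀ (o : 𝒳.obj) [IsAffine (sch 𝒳 o)] (y : preSub ψ η o), η.app o (L o y) = ψ.app o y.1 :=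
    fun o _ y => congrArg Subtype.val ((LinearEquiv.ofInjective (η.app o) (hη o)).apply_symm_apply
      ⟨ψ.app o y.1, y.2⟩)
  refine ⟨⟨fun o _ => L o, fun {o' o} _ _ e y => hη o' ?_⟩, fun o _ y => hL o y⟩
  rw [η.natural e]
  exact (hL o' _).trans ((ψ.natural e y.1).trans (congrArg _ (hL o y).symm))

end Pre

/-! ### Free functors -/

/-- The functor of free modules. -/
noncomputable def freeFun (𝒳 : AlgSt.Cat S) (k : ℕ) : FlatFun 𝒳 where
  obj o := Fin k → Γ(sch 𝒳 o, ⊤)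
  res := fun {_ o} _ _ e => AddMonoidHom.mk' (fun v j => (bmap 𝒳 e).appTop.hom (v j))
    fun a b => funext fun j => map_add (bmap 𝒳 e).appTop.hom (a j) (b j)
  sl := fun {_ _} _ _ e r v => funext fun j => map_mul (bmap 𝒳 e).appTop.hom r (v j)
  res_id o _ v := funext fun j => by
    show (bmap 𝒳 (𝟙 o)).appTop.hom (v j) = v j
    rw [StMod.bmap_id, Scheme.Hom.id_appTop]
    rfl
  res_comp := fun {_ _ _} _ _ _ e' e v => funext fun j => by
    show (bmap 𝒳 (e' ≫ e)).appTop.hom (v j) = _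
    rw [StMod.bmap_comp, appTop_comp_hom]
    rfl
  bc := fun {o' o} _ _ e _ => by
    let := (bmap 𝒳 e).appTop.hom.toAlgebra
    refine (isBC_iff rfl).2 ⟨fun r v => funext fun j => map_mul (bmap 𝒳 e).appTop.hom r (v j), ?_⟩
    have key : ∀ t, bcMap Γ(sch 𝒳 o, ⊤) Γ(sch 𝒳 o', ⊤) (AddMonoidHom.mk'
        (fun (v : Fin k → Γ(sch 𝒳 o, ⊤)) j => (bmap 𝒳 e).appTop.hom (v j))
        fun a b => funext fun j => map_add (bmap 𝒳 e).appTop.hom (a j) (b j))
        (fun r v => funext fun j => map_mul (bmap 𝒳 e).appTop.hom r (v j)) t =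
        TensorProduct.piScalarRight Γ(sch 𝒳 o, ⊤) Γ(sch 𝒳 o', ⊤) Γ(sch 𝒳 o', ⊤) (Fin k) t := fun t => by
      induction t with
      | zero => simp
      | tmul c v =>
        rw [bcMap_tmul]
        funext j
        simp only [TensorProduct.piScalarRight_apply, TensorProduct.piScalarRightHom_tmul, Pi.smul_apply,
          AddMonoidHom.mk'_apply, smul_eq_mul, Algebra.smul_def, RingHom.algebraMap_toAlgebra]
        exact mul_comm _ _
      | add a b ha hb => simp only [map_add, ha, hb]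
    exact (funext key : _ = _) ▸ (TensorProduct.piScalarRight Γ(sch 𝒳 o, ⊤) Γ(sch 𝒳 o', ⊤) Γ(sch 𝒳 o', ⊤) (Fin k)).bijective

/-! ### Pullback to the chart -/

variable (D : Data 𝒳)

/-- Values at the pullback of an object. -/
def Up (Φ : FlatFun 𝒳) (o : 𝒳.obj) [IsAffine (sch 𝒳 o)] : Type u := Φ.obj (D.h o)

noncomputable instance (Φ : FlatFun 𝒳) (o : 𝒳.obj) [IsAffine (sch 𝒳 o)] : AddCommGroup (Up D Φ o) :=
  inferInstanceAs (AddCommGroup (Φ.obj (D.h o)))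

noncomputable instance upMod' (Φ : FlatFun 𝒳) (o : 𝒳.obj) [IsAffine (sch 𝒳 o)] :
    Module Γ(sch 𝒳 (D.h o), ⊤) (Up D Φ o) :=
  inferInstanceAs (Module Γ(sch 𝒳 (D.h o), ⊤) (Φ.obj (D.h o)))

noncomputable instance upMod (Φ : FlatFun 𝒳) (o : 𝒳.obj) [IsAffine (sch 𝒳 o)] :
    Module Γ(sch 𝒳 o, ⊤) (Up D Φ o) :=
  Module.compHom _ (bmap 𝒳 (D.ε o)).appTop.hom

theorem appTop_hmap_ε {o' o : 𝒳.obj} (e : o' ⟶ o) (r : Γ(sch 𝒳 o, ⊤)) :
    (bmap 𝒳 (D.hmap e)).appTop.hom ((bmap 𝒳 (D.ε o)).appTop.hom r) =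
      (bmap 𝒳 (D.ε o')).appTop.hom ((bmap 𝒳 e).appTop.hom r) := by
  rw [← RingHom.comp_apply, ← appTop_comp_hom, ← StMod.bmap_comp, D.hmap_ε, StMod.bmap_comp, appTop_comp_hom]
  rfl

/-- The pullback of a functor to the chart. -/
noncomputable def upFun (Φ : FlatFun 𝒳) : FlatFun 𝒳 where
  obj o := Up D Φ o
  res := fun {_ _} _ _ e => Φ.res (D.hmap e)
  sl := fun {o' o} _ _ e r (y : Φ.obj (D.h o)) => by
    show Φ.res (D.hmap e) ((bmap 𝒳 (D.ε o)).appTop.hom r • y) = _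
    rw [Φ.sl, appTop_hmap_ε]
    rfl
  res_id o _ (y : Φ.obj (D.h o)) := by
    show Φ.res (D.hmap (𝟙 o)) y = y
    rw [D.hmap_id, Φ.res_id]
  res_comp := fun {_ _ o} _ _ _ e' e (y : Φ.obj (D.h o)) => by
    show Φ.res (D.hmap (e' ≫ e)) y = _
    rw [D.hmap_comp, Φ.res_comp]
    rfl
  bc := fun {o' o} _ _ e he =>
    AffPush.isBC_of_isPushout (D.isPushout_hmap e) (M := Up D Φ o) (N := Up D Φ o')
      (fun _ _ => rfl) (fun _ _ => rfl) (Φ.bc (D.hmap e) (D.flat_hmap e he))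

/-- The unit. -/
noncomputable def unit (Φ : FlatFun 𝒳) : FlatHom Φ (upFun D Φ) where
  app o _ :=
    { toFun := fun y => (Φ.res (D.ε o) y : Φ.obj (D.h o))
      map_add' := fun a b => map_add (Φ.res (D.ε o)) a b
      map_smul' := fun r a => Φ.sl (D.ε o) r a }
  natural := fun {o' o} _ _ e y => by
    show Φ.res (D.ε o') (Φ.res e y) = Φ.res (D.hmap e) (Φ.res (D.ε o) y)
    rw [← Φ.res_comp, ← Φ.res_comp, D.hmap_ε]

theorem unit_injective (Φ : FlatFun 𝒳) (o : 𝒳.obj) [IsAffine (sch 𝒳 o)] :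
    Function.Injective ((unit D Φ).app o) := fun _ _ h => eqΦ Φ (D.cover o) fun _ => h

/-- The combination of values on the chart, at an object. -/
noncomputable def combApp (Φ : FlatFun 𝒳) {k : ℕ} (w : Fin k → Φ.obj D.ξ) (o : 𝒳.obj) [IsAffine (sch 𝒳 o)] :
    Up D (freeFun 𝒳 k) o →ₗ[Γ(sch 𝒳 o, ⊤)] Up D Φ o where
  toFun c := (Fintype.linearCombination Γ(sch 𝒳 (D.h o), ⊤) (fun j => Φ.res (D.g o) (w j)) c : Φ.obj (D.h o))
  map_add' a b := map_add (Fintype.linearCombination Γ(sch 𝒳 (D.h o), ⊤) fun j => Φ.res (D.g o) (w j)) a b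
  map_smul' r a := map_smul (Fintype.linearCombination Γ(sch 𝒳 (D.h o), ⊤) fun j => Φ.res (D.g o) (w j))
    ((bmap 𝒳 (D.ε o)).appTop.hom r) a

/-- The combination of values on the chart. -/
noncomputable def comb (Φ : FlatFun 𝒳) {k : ℕ} (w : Fin k → Φ.obj D.ξ) :
    FlatHom (upFun D (freeFun 𝒳 k)) (upFun D Φ) where
  app o _ := combApp D Φ w o
  natural := fun {o' o} _ _ e (c : Fin k → Γ(sch 𝒳 (D.h o), ⊤)) => by
    show Fintype.linearCombination Γ(sch 𝒳 (D.h o'), ⊤) (fun j => Φ.res (D.g o') (w j))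
        (fun j => (bmap 𝒳 (D.hmap e)).appTop.hom (c j)) =
      Φ.res (D.hmap e) (Fintype.linearCombination Γ(sch 𝒳 (D.h o), ⊤) (fun j => Φ.res (D.g o) (w j)) c)
    simp only [Fintype.linearCombination_apply, map_sum, Φ.sl (D.hmap e)]
    refine Finset.sum_congr rfl fun j _ => ?_
    refine ((Φ.sl (D.hmap e) (c j) (Φ.res (D.g o) (w j))).trans ?_).symm
    rw [← Φ.res_comp, D.hmap_g]

theorem range_comb (Φ : FlatFun 𝒳) {k : ℕ} (w : Fin k → Φ.obj D.ξ) (o : 𝒳.obj) [IsAffine (sch 𝒳 o)]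
    (y : Φ.obj (D.h o)) (hy : y ∈ Submodule.span Γ(sch 𝒳 (D.h o), ⊤) (Set.range fun j => Φ.res (D.g o) (w j))) :
    (y : Up D Φ o) ∈ LinearMap.range ((comb D Φ w).app o) := by
  rw [← Fintype.range_linearCombination] at hy
  exact hy

theorem exists_span (Φ : FlatFun 𝒳) {n : ℕ} (y : Fin n → Φ.obj (D.h D.ξ)) :
    ∃ (k : ℕ) (w : Fin k → Φ.obj D.ξ),
      ∀ i, y i ∈ Submodule.span Γ(sch 𝒳 (D.h D.ξ), ⊤) (Set.range fun j => Φ.res (D.g D.ξ) (w j)) := by
  classical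
  have h1 : ∀ i, y i ∈ Submodule.span Γ(sch 𝒳 (D.h D.ξ), ⊤) (Set.range (Φ.res (D.g D.ξ))) := fun i =>
    bc_induction (Φ.bc (D.g D.ξ) D.flat_g) (P := fun z => z ∈ Submodule.span _ _) (Submodule.zero_mem _)
      (fun _ _ => Submodule.add_mem _) (fun b m => Submodule.smul_mem _ b (Submodule.subset_span (Set.mem_range_self m))) (y i)
  choose T hT hTy using fun i => Submodule.mem_span_finite_of_mem_span (h1 i)
  let T' : Finset (Φ.obj (D.h D.ξ)) := Finset.univ.biUnion T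
  have hT' : ∀ z ∈ T', ∃ m, Φ.res (D.g D.ξ) m = z := fun z hz => by
    obtain ⟨i, -, hi⟩ := Finset.mem_biUnion.1 hz
    exact hT i hi
  choose m hm using hT'
  refine ⟨T'.card, fun j => m _ (T'.equivFin.symm j).2, fun i => Submodule.span_mono ?_ (hTy i)⟩
  intro z hz
  have hz' : z ∈ T' := Finset.mem_biUnion.2 ⟨i, Finset.mem_univ i, hz⟩
  refine ⟨T'.equivFin ⟨z, hz'⟩, ?_⟩
  show Φ.res (D.g D.ξ) (m _ (T'.equivFin.symm (T'.equivFin ⟨z, hz'⟩)).2) = z
  rw [hm]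
  simp

theorem mem_span_of_unit_mem (Φ : FlatFun 𝒳) {k : ℕ} (w : Fin k → Φ.obj D.ξ) (y : Φ.obj D.ξ)
    (h : (unit D Φ).app D.ξ y ∈ LinearMap.range ((comb D Φ w).app D.ξ)) :
    y ∈ Submodule.span Γ(sch 𝒳 D.ξ, ⊤) (Set.range w) := by
  obtain ⟨δ, h₁, h₂⟩ := D.exists_pair (𝟙 D.ξ) (𝟙 D.ξ)
  obtain ⟨c, hc⟩ := h
  have h3 := congrArg (Φ.res δ) (show Fintype.linearCombination Γ(sch 𝒳 (D.h D.ξ), ⊤)
      (fun j => Φ.res (D.g D.ξ) (w j)) c = Φ.res (D.ε D.ξ) y from hc)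
  simp only [Fintype.linearCombination_apply, map_sum, ← Φ.res_comp, h₁, Φ.res_id] at h3
  rw [← h3]
  refine Submodule.sum_mem _ fun j _ => ?_
  rw [show Φ.res δ (c j • Φ.res (D.g D.ξ) (w j)) = _ from Φ.sl δ (c j) _, ← Φ.res_comp, h₂, Φ.res_id]
  exact Submodule.smul_mem _ _ (Submodule.subset_span (Set.mem_range_self j))

end Groth.Agent.H14.CovRes
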