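import Groth.Agent.H14.UB.AffComp
import Groth.Agent.H14.GenFam.Local

/-!
The fibres of an affine, flat, surjective chart by an affine scheme over affine objects.
-/

set_option autoImplicit false
set_option backward.isDefEq.respectTransparency false
set_option backward.isDefEq.respectTransparency.types false
set_option linter.style.haveILetI false

universe u

open CategoryTheory CategoryTheory.Limits AlgebraicGeometry Opposite
open StMod (sch bmap fibCat baseOver)
open Groth.Agent.Lib Groth.Agent.Lib.AlgStack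
open Groth.Agent.H14.GenFam
open FibCat (IsFibGrpd fp fpFst fpSnd fpLift overCat)
open AlgSt (ofSp ofSpMap spMapOfOver RepByAlgSpWith)
open AlgSp (Sp yon IsAlgSpace LocP Points)

namespace Groth.Agent.H14.CovRes

variable {S : Scheme.{u}} {𝒲 𝒳 : AlgSt.Cat S}

/-- The fibre of an affine flat surjective morphism over an object has a final object, faithfully flat over it. -/
theorem exists_terminal_ff (hW : IsFibGrpd 𝒲.p) (hX : IsFibGrpd 𝒳.p) {f : 𝒲 ⥤ᵇ 𝒳}
    (hf : RepByAlgSpWith AlgSp.IsAffineMor f) (hfl : RepByAlgSpWith (LocP @Flat) f)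
    (hfs : RepByAlgSpWith AlgSp.IsSurjectiveMor f) (η : 𝒳.obj) :
    ∃ x : (fibCat f η).obj, (∀ o, ∃ k : o ⟶ x, ∀ k', k' = k) ∧
      Flat (baseOver f x.left x.hom).left ∧ Surjective (baseOver f x.left x.hom).left := by
  obtain ⟨κ, hκ⟩ := Yoneda.exists_fromObj_iso hX (rfl : 𝒳.p.obj η = 𝒳.p.obj η)
  let T := 𝒳.p.obj η
  let y := Yoneda.fromObj hX (rfl : 𝒳.p.obj η = 𝒳.p.obj η)
  obtain ⟨F, e, he, hP⟩ := hf T y
  have hflγ := Space.prop_of_rep (IsAlgFp.respectsIsoSp_locP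
    Lib.SourceDescent.Scheme.flat) hfl F.property he
  have hsγ := Space.prop_of_rep IsAlgFp.respectsIsoSp_surjective hfs F.property he
  have hfR := FibProd.isFibGrpd_fp (Yoneda.isFibGrpd_overCat T) hW hX (F := y) (G := f)
  have hrep := AlgSpMor.AffineDescent.repWith_of_isAffineMor hP
  obtain ⟨W, i, fst, sq, -⟩ := AlgSpace.repWith_exists hrep (𝟙 ((AlgSp.yon S).obj T))
  have hiso : IsIso fst := sq.isIso_fst_of_isIso
  let γ : F.obj ⟶ (yon S).obj T := spMapOfOver (BasedFunctor.comp e (fpFst y f))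
  have hγ : fst ≫ γ = (yon S).map i := by rw [sq.w, Category.comp_id]
  have hif : Flat i.left := by
    refine AlgSp.locP_yon_map ?_
    rw [← hγ]
    exact Lib.AlgSpMor.LocP.locP_of_repWith Lib.SourceDescent.Scheme.flat
      ((Lib.AlgSpace.repWith_iso_comp_iff _ fst γ).2 (Lib.AlgSpMor.LocP.repWith_of_locP
        Lib.SourceDescent.Scheme.flat (IsAlgSpace.yon_obj T) hrep.1 hflγ))
  have his : Surjective i.left := ⟨fun t => by
    obtain ⟨g, hg⟩ := hsγ (Points.schemeHomeo T t)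
    obtain ⟨t', rfl⟩ : ∃ t', Points.map fst t' = g := ⟨Points.map (inv fst) g, by
      rw [← Points.map_comp, IsIso.inv_hom_id, Points.map_id]⟩
    obtain ⟨t₀, rfl⟩ := (Points.schemeHomeo W).surjective t'
    refine ⟨t₀, (Points.schemeHomeo T).injective ?_⟩
    rw [← Points.map_yon_map_apply, ← hg, ← hγ, Points.map_comp]⟩
  have hG : IsEqv (BasedFunctor.comp e (BasedFunctor.comp (FibProd.swap y f)
      (BasedFunctor.comp (fpToFib f y) (mapFun f κ.hom)))) :=
    (isEqv_of_isEquivOver he (StkRep.isStack_ofSp F.obj).1 hfR).comp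
      ((isEqv_of_isEquivOver (FibProd.isEquivOver_swap y f) hfR
        (FibProd.isFibGrpd_fp hW (Yoneda.isFibGrpd_overCat _) hX)).comp
        ((isEqv_fpToFib hW hX f y).comp (isEqv_mapFun f hW κ.hom)))
  let G := BasedFunctor.comp e (BasedFunctor.comp (FibProd.swap y f)
    (BasedFunctor.comp (fpToFib f y) (mapFun f κ.hom)))
  let a₀ : (ofSp F.obj).obj := ⟨W, (AlgSp.J S).uliftYonedaEquiv fst⟩
  have hterm : ∀ o, ∃ k : o ⟶ G.obj a₀, ∀ k', k' = k := fun o => by
    obtain ⟨a, ea, -⟩ := hG.obj o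
    obtain ⟨b, hb⟩ := ((AlgSp.yon S).map_surjective ((AlgSp.J S).uliftYonedaEquiv.symm a.sec ≫ inv fst))
    have hba : F.obj.obj.map b.op a₀.sec = a.sec := by
      have h1 : (AlgSp.yon S).map b ≫ fst = (AlgSp.J S).uliftYonedaEquiv.symm a.sec := by simp [hb]
      have h2 := congrArg (AlgSp.J S).uliftYonedaEquiv h1
      rw [Equiv.apply_symm_apply] at h2
      exact ((AlgSp.J S).map_uliftYonedaEquiv fst b).trans h2
    let k₀ : a ⟶ a₀ := ⟨b, hba⟩
    have := hG.full
    have := hG.faithful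
    refine ⟨ea.inv ≫ G.map k₀, fun k' => ?_⟩
    obtain ⟨k₁, hk₁⟩ := G.toFunctor.map_surjective (ea.hom ≫ k')
    rw [Iso.eq_inv_comp, ← hk₁]
    refine congrArg G.map (Stk.EltObj.hom_ext ((AlgSp.yon S).map_injective ?_))
    rw [← cancel_mono fst]
    apply (AlgSp.J S).uliftYonedaEquiv.injective
    exact (((AlgSp.J S).map_uliftYonedaEquiv fst k₁.hom).symm.trans k₁.map_sec).trans
      (((AlgSp.J S).map_uliftYonedaEquiv fst b).symm.trans hba).symm
  -- the structure map of the final object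
  let P := (FibProd.swap y f).obj (e.obj a₀)
  have h1 : (spMapOfOver (BasedFunctor.comp e (fpFst y f))).hom.app (op W) a₀.sec = ⟨i⟩ := by
    have := congrArg (AlgSp.J S).uliftYonedaEquiv hγ
    rw [GrothendieckTopology.uliftYonedaEquiv_comp] at this
    exact this
  rw [AlgSt.spMapOfOver_app] at h1
  have h2 : AlgSt.secHom (BasedFunctor.comp e (fpFst y f)) a₀ = i := congrArg ULift.down h1
  have h3 : ∃ a : 𝒲.p.obj (G.obj a₀).left ⟶ W, IsIso a ∧
      baseOver f (G.obj a₀).left (G.obj a₀).hom = a ≫ i := by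
    refine ⟨eqToHom ((FibProd.snd_obj P).symm.trans ((BasedFunctor.comp e (fpFst y f)).w_obj a₀)), inferInstance, ?_⟩
    show baseOver f P.obj.fst ((P.obj.iso.hom ≫ y.map (Yoneda.toId P.obj.snd)) ≫ κ.hom) = _
    rw [StMod.baseOver_comp, StMod.baseOver, Functor.map_comp]
    haveI : 𝒳.p.IsHomLift (𝟙 (𝒲.p.obj P.obj.fst)) P.obj.iso.hom := P.property
    haveI : 𝒳.p.IsHomLift P.obj.snd.hom (y.map (Yoneda.toId P.obj.snd)) := Yoneda.map_toId_isHomLift y _
    haveI := hκ
    rw [IsHomLift.fac' 𝒳.p (𝟙 (𝒲.p.obj P.obj.fst)) P.obj.iso.hom,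
      IsHomLift.fac' 𝒳.p P.obj.snd.hom (y.map (Yoneda.toId P.obj.snd)), IsHomLift.fac' 𝒳.p (𝟙 T) κ.hom, ← h2]
    simp [AlgSt.secHom, P, FibProd.swap, fpLift]
    rfl
  obtain ⟨a, ha, h3⟩ := h3
  haveI : IsIso a.left := inferInstanceAs (IsIso ((Over.forget S).map a))
  refine ⟨G.obj a₀, hterm, ?_, ?_⟩ <;>
  · rw [h3, Over.comp_left]
    infer_instance

open UB.AffComp in
theorem flat_surjective_eps (hW : IsFibGrpd 𝒲.p) (hX : IsFibGrpd 𝒳.p) {f : 𝒲 ⥤ᵇ 𝒳}
    (hf : RepByAlgSpWith AlgSp.IsAffineMor f) (hfl : RepByAlgSpWith (LocP @Flat) f)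
    (hfs : RepByAlgSpWith AlgSp.IsSurjectiveMor f) (x : 𝒳.obj) :
    Flat (eps hW hX hf x) ∧ Surjective (eps hW hX hf x) := by
  obtain ⟨o, ho, h1, h2⟩ := exists_terminal_ff hW hX hf hfl hfs x
  obtain ⟨k₁, hk₁⟩ := ho (up hW hX hf x)
  obtain ⟨k₀, hk₀⟩ := ho o
  let k₂ := toUp hW hX hf o
  haveI : IsIso k₁ := ⟨k₂, hom_up hW hX hf _ _, (hk₀ _).trans (hk₀ _).symm⟩
  haveI : IsIso k₁.left := inferInstanceAs (IsIso ((CostructuredArrow.proj f.toFunctor x).map k₁))
  haveI : IsIso (bmap 𝒲 k₁.left) := inferInstanceAs (IsIso ((Over.forget S).map (𝒲.p.map k₁.left)))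
  have e : eps hW hX hf x = bmap 𝒲 k₁.left ≫ (baseOver f o.left o.hom).left := by
    rw [eps, base, ← baseOver_w k₁]
    rfl
  rw [e]
  exact ⟨inferInstance, inferInstance⟩

end Groth.Agent.H14.CovRes
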