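import Groth.Agent.H14.CovRes.Fun
import Groth.Agent.H14.GenFam.Glue
import Groth.Agent.H14.GerbeDesc.LocFree
import Groth.Agent.H14.GerbeDesc.Stack
import Groth.Agent.Lib.Pure.ProjDescent
import Groth.Agent.Lib.Modules.AffineSections
import Groth.Agent.Lib.CohBasics.Affine
import Groth.Agent.Lib.TensorMod.TensorInv
import Mathlib.RingTheory.Finiteness.Descent

/-!
The resolution property of a stack with an affine, flat, surjective chart by an affine scheme whose ring is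
Noetherian with all submodules of flat modules flat.
-/

set_option autoImplicit false
set_option backward.isDefEq.respectTransparency false
set_option backward.isDefEq.respectTransparency.types false
set_option linter.style.haveILetI false

universe u

open CategoryTheory CategoryTheory.Limits AlgebraicGeometry Opposite TensorProduct TopologicalSpace
open StMod (sch bmap)
open Groth.Agent.Lib Groth.Agent.Lib.AlgStack
open Groth.Agent.H14.ModDesc
open Groth.Agent.H14.GenFam (FlatFun Cover bc_induction eqΦ mapHom isBC_mapHom exists_obj)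
open Groth.Agent.H14.MultiExt (FlatHom)
open Groth.Agent.H14.UB (qFlat mem_range_of_cover)

namespace Groth.Agent.H14.CovRes

/-- Submodules of flat modules are flat. -/
def HeredFlat (A : Type u) [CommRing A] : Prop :=
  ∀ (N : Type u) [AddCommGroup N] [Module A N], Module.Flat A N → ∀ T : Submodule A N, Module.Flat A T

section Alg

variable {A B : Type u} [CommRing A] [CommRing B]

theorem finite_of_isBC {M N : Type u} [AddCommGroup M] [Module A M] [AddCommGroup N] [Module B N]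
    {φ : A →+* B} {g : M →+ N} (h : IsBC φ g) [Module.Finite A M] [Module.Projective A M] :
    Module.Finite B N ∧ Module.Projective B N := by
  let := φ.toAlgebra
  obtain ⟨hs, hb⟩ := (isBC_iff rfl).1 h
  let e : B ⊗[A] M ≃ₗ[B] N := LinearEquiv.ofBijective { bcMap A B g hs with map_smul' := bcMap_smul g hs } hb
  exact ⟨Module.Finite.equiv e, Module.Projective.of_equiv e⟩

theorem finite_projective_descent {M N : Type u} [AddCommGroup M] [Module A M] [AddCommGroup N] [Module B N]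
    {φ : A →+* B} {g : M →+ N} (h : IsBC φ g) (hφ : φ.FaithfullyFlat) [Module.Finite B N] [Module.Projective B N] :
    Module.Finite A M ∧ Module.Projective A M := by
  let := φ.toAlgebra
  have : Module.FaithfullyFlat A B := hφ
  obtain ⟨hs, hb⟩ := (isBC_iff rfl).1 h
  let e : B ⊗[A] M ≃ₗ[B] N := LinearEquiv.ofBijective { bcMap A B g hs with map_smul' := bcMap_smul g hs } hb
  have : Module.Finite B (B ⊗[A] M) := Module.Finite.equiv e.symm
  have : Module.Projective B (B ⊗[A] M) := Module.Projective.of_equiv e.symm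
  exact ⟨Module.Finite.of_finite_tensorProduct_of_faithfullyFlat B,
    Pure.ProjDescent.projective_of_faithfullyFlat (R := A) (S := B) (M := M)⟩

theorem flat_compHom (φ : A →+* B) (hφ : φ.Flat) (k : ℕ) :
    @Module.Flat A (Fin k → B) _ _ (Module.compHom _ φ) := by
  let := φ.toAlgebra
  have : Module.Flat A B := hφ
  let m := Module.compHom (Fin k → B) φ
  let e : (DirectSum (Fin k) fun _ => B) ≃ₗ[A] (Fin k → B) :=
    { DirectSum.linearEquivFunOnFintype A (Fin k) (fun _ => B) with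
      map_add' := map_add (DirectSum.linearEquivFunOnFintype A (Fin k) (fun _ => B))
      map_smul' := fun r a => (map_smul (DirectSum.linearEquivFunOnFintype A (Fin k) (fun _ => B)) r a).trans
        (funext fun j => Algebra.smul_def r _) }
  exact Module.Flat.of_linearEquiv e.symm

end Alg

variable {S : Scheme.{u}} {𝒳 : AlgSt.Cat S} (D : Data 𝒳)

theorem faithfullyFlat_ε (o : 𝒳.obj) [IsAffine (sch 𝒳 o)] : (bmap 𝒳 (D.ε o)).appTop.hom.FaithfullyFlat := by
  have := D.flat_ε o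
  have := D.surj_ε o
  exact (Flat.flat_and_surjective_iff_faithfullyFlat_of_isAffine _).1 ⟨inferInstance, inferInstance⟩

theorem isFinLocFree_of_affine (hX : FibCat.IsFibGrpd 𝒳.p) (E : StMod.QCoh 𝒳)
    (h : ∀ (o : 𝒳.obj) [IsAffine (sch 𝒳 o)], Module.Finite Γ(sch 𝒳 o, ⊤) Γ(E.obj.obj o, ⊤) ∧
      Module.Projective Γ(sch 𝒳 o, ⊤) Γ(E.obj.obj o, ⊤)) (x : 𝒳.obj) : FlatMod.IsFinLocFree (E.obj.obj x) := by
  refine TensorMod.TensorInv.isFinLocFree_of_locally fun p => ?_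
  obtain ⟨V, hV, hp, -⟩ := exists_isAffineOpen_mem_and_subset (X := sch 𝒳 x) (x := p) (U := ⊤) trivial
  obtain ⟨x', φ, e, hφ⟩ := exists_obj hX x V.ι
  haveI : IsAffine V.toScheme := hV
  haveI : IsAffine (sch 𝒳 x') := IsAffine.of_isIso e.hom
  haveI := E.property.2 x'
  have h' : FlatMod.IsFinLocFree (E.obj.obj x') :=
    Modules.AffineSections.isFinLocFree_of_sections fun q => ⟨⊤, isAffineOpen_top _, trivial, h x'⟩
  have := E.property.1 φ (g := bmap 𝒳 φ) rfl
  let i₁ := asIso (((Scheme.Modules.pullbackPushforwardAdjunction (bmap 𝒳 φ)).homEquiv (E.obj.obj x)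
    (E.obj.obj x')).symm (E.obj.map φ rfl))
  refine ⟨V, hp, ?_⟩
  refine GerbeDesc.isFinLocFree_of_iso ?_ (TensorMod.LocFree.isFinLocFree_pullback e.inv h')
  exact (Scheme.Modules.pullback e.inv).mapIso i₁.symm ≪≫
    (Scheme.Modules.pullbackComp e.inv (bmap 𝒳 φ)).app _ ≪≫
    (Scheme.Modules.pullbackCongr (show e.inv ≫ bmap 𝒳 φ = V.ι by rw [hφ, Iso.inv_hom_id_assoc])).app _ ≪≫
    (Scheme.Modules.restrictFunctorIsoPullback V.ι).symm.app _

set_option maxHeartbeats 800000 in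
/-- Finitely many sections over the chart are hit by a vector bundle. -/
theorem exists_vb [IsNoetherianRing Γ(sch 𝒳 D.ξ, ⊤)] (hA : HeredFlat Γ(sch 𝒳 D.ξ, ⊤)) (M : StMod.QCoh 𝒳)
    {n : ℕ} (m : Fin n → Γ(M.obj.obj D.ξ, ⊤)) :
    ∃ (E : StMod.QCoh 𝒳) (q : E ⟶ M), E.obj.IsLocFree ∧ E.obj.IsFinType ∧
      ∀ i, ∃ s, (q.hom.app D.ξ).app ⊤ s = m i := by
  -- the flat functor over which the sections lift
  let Φ := qFlat M
  obtain ⟨k, w, hw⟩ := exists_span D Φ fun i => Φ.res (D.ε D.ξ) (m i)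
  obtain ⟨p, hp⟩ := exists_preProj (comb D Φ w) (unit D Φ) (fun o _ => unit_injective D Φ o)
  let N := preFlat (comb D Φ w) (unit D Φ)
  have hn : ∀ i, ∃ y : N.obj D.ξ, p.app D.ξ y = m i := fun i => by
    obtain ⟨c, hc⟩ := range_comb D Φ w D.ξ _ (hw i)
    let y : N.obj D.ξ := ⟨c, m i, hc.symm⟩
    exact ⟨y, unit_injective D Φ D.ξ ((hp D.ξ y).trans hc)⟩
  choose y hy using hn
  -- the finite part
  obtain ⟨k', w', hw'⟩ := exists_span D N fun i => N.res (D.ε D.ξ) (y i)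
  let N' := preFlat (unit D N) (comb D N w')
  have hN'fin : Module.Finite Γ(sch 𝒳 D.ξ, ⊤) (N'.obj D.ξ) := by
    have hle : preSub (unit D N) (comb D N w') D.ξ ≤ Submodule.span Γ(sch 𝒳 D.ξ, ⊤) (Set.range w') :=
      fun z hz => mem_span_of_unit_mem D N w' z hz
    have hfg : Module.Finite Γ(sch 𝒳 D.ξ, ⊤) (Submodule.span Γ(sch 𝒳 D.ξ, ⊤) (Set.range w')) :=
      Module.Finite.span_of_finite _ (Set.finite_range w')
    exact Module.Finite.of_injective (Submodule.inclusion hle) (Submodule.inclusion_injective hle)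
  have hNflat : Module.Flat Γ(sch 𝒳 D.ξ, ⊤) (N.obj D.ξ) := by
    have := D.flat_ε D.ξ
    exact hA (Up D (freeFun 𝒳 k) D.ξ) (flat_compHom _ (flat_appTop _) k) _
  have hN'flat : Module.Flat Γ(sch 𝒳 D.ξ, ⊤) (N'.obj D.ξ) := hA _ hNflat _
  have hN'proj : Module.Projective Γ(sch 𝒳 D.ξ, ⊤) (N'.obj D.ξ) :=
    have : Module.FinitePresentation Γ(sch 𝒳 D.ξ, ⊤) (N'.obj D.ξ) := Module.finitePresentation_of_finite _ _
    Module.Flat.projective_of_finitePresentation
  have hy' : ∀ i, ∃ z : N'.obj D.ξ, p.app D.ξ ((preIncl (unit D N) (comb D N w')).app D.ξ z) = m i := fun i =>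
    ⟨⟨y i, range_comb D N w' D.ξ _ (hw' i)⟩, hy i⟩
  -- the extension
  obtain ⟨E, φ, hφb, hφn⟩ := GenFam.exists_ext N' D.hX D.chart
  let θ : ∀ (o : 𝒳.obj) [IsAffine (sch 𝒳 o)], N'.obj o →ₗ[Γ(sch 𝒳 o, ⊤)] Φ.obj o := fun o _ =>
    (p.app o) ∘ₗ ((preIncl (unit D N) (comb D N w')).app o)
  obtain ⟨q, hq⟩ := GenFam.exists_hom_of_local D.hX E M (fun o => Nonempty (o ⟶ D.chart.x))
    (fun e h => ⟨e ≫ h.some⟩) (fun o ho => ⟨1, D.cover o, fun _ => ⟨D.g o⟩⟩)
    (fun o ho h => (θ o) ∘ₗ (φ o h))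
    (fun {o' o} h' h p' ph e t => by
      show Φ.res e (θ o (φ o ph t)) = θ o' (φ o' p' (E.obj.mapTop e t))
      rw [hφn e p' ph t]
      exact (Eq.trans (congrArg (p.app o') ((preIncl (unit D N) (comb D N w')).natural e _))
        (p.natural e _)).symm)
  have hξ : Nonempty (D.ξ ⟶ D.chart.x) := ⟨𝟙 _⟩
  have hb : Function.Bijective (φ D.ξ hξ) := hφb D.ξ hξ (𝟙 _) (by rw [StMod.bmap_id]; infer_instance)
  let eξ : Γ(E.obj.obj D.ξ, ⊤) ≃ₗ[Γ(sch 𝒳 D.ξ, ⊤)] N'.obj D.ξ := LinearEquiv.ofBijective (φ D.ξ hξ) hb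
  haveI : Module.Finite Γ(sch 𝒳 D.ξ, ⊤) Γ(E.obj.obj D.ξ, ⊤) := Module.Finite.equiv eξ.symm
  haveI : Module.Projective Γ(sch 𝒳 D.ξ, ⊤) Γ(E.obj.obj D.ξ, ⊤) := Module.Projective.of_equiv eξ.symm
  have haff : ∀ (o : 𝒳.obj) [IsAffine (sch 𝒳 o)], Module.Finite Γ(sch 𝒳 o, ⊤) Γ(E.obj.obj o, ⊤) ∧
      Module.Projective Γ(sch 𝒳 o, ⊤) Γ(E.obj.obj o, ⊤) := fun o _ => by
    obtain ⟨h1, h2⟩ := finite_of_isBC (isBC_mapHom E (D.g o))
    exact finite_projective_descent (isBC_mapHom E (D.ε o)) (faithfullyFlat_ε D o)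
  have hlf := isFinLocFree_of_affine D.hX E haff
  refine ⟨E, ObjectProperty.homMk q, fun x => GerbeDesc.isLocallyFree_of_isFinLocFree (hlf x),
    fun x => ?_, fun i => ?_⟩
  · have := TensorMod.FPConv.isFP_of_isFinLocFree (hlf x)
    haveI : SheafOfModules.IsFinitePresentation (R := (sch 𝒳 x).ringCatSheaf) (E.obj.obj x) := this
    exact inferInstanceAs (SheafOfModules.IsFiniteType (R := (sch 𝒳 x).ringCatSheaf) (E.obj.obj x))
  · obtain ⟨z, hz⟩ := hy' i
    obtain ⟨t, ht⟩ := hb.2 z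
    refine ⟨t, ?_⟩
    show (q.app D.ξ).app ⊤ t = _
    rw [hq D.ξ inferInstance hξ t, LinearMap.comp_apply, ht]
    exact hz

theorem eq_zero_of_chart {M N : StMod.QCoh 𝒳} (d : M.obj ⟶ N.obj)
    (h : ∀ s, (d.app D.ξ).app ⊤ s = 0) : d = 0 := by
  have haff : ∀ (o : 𝒳.obj) (_ : IsAffine (sch 𝒳 o)) (t : Γ(M.obj.obj o, ⊤)), (d.app o).app ⊤ t = 0 := by
    intro o _ t
    refine Cover.eq_of_mapTop (D.cover o) N fun _ => ?_
    rw [N.obj.mapTop_zero, StMod.Mod.mapTop_app d]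
    refine bc_induction (isBC_mapHom M (D.g o)) (P := fun z => (d.app (D.h o)).app ⊤ z = 0) (map_zero _)
      (fun a b ha hb => by rw [map_add, ha, hb, add_zero]) (fun b z => ?_) (M.obj.mapTop (D.ε o) t)
    rw [Scheme.Modules.Hom.app_smul]
    show b • (d.app (D.h o)).app ⊤ (M.obj.mapTop (D.g o) z) = 0
    rw [← StMod.Mod.mapTop_app d, h z, StMod.Mod.mapTop_zero, smul_zero]
  refine ModDesc.hom_ext_affine D.hX N.property fun o ho t => ?_
  rw [haff o ho t]
  rfl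

theorem isSurj_of_chart {E M : StMod.QCoh 𝒳} (q : E ⟶ M)
    (h : ∀ t, ∃ s, (q.hom.app D.ξ).app ⊤ s = t) : StMod.Mod.IsSurj q.hom := by
  intro o ho y
  haveI := ho
  let η : FlatHom (qFlat E) (qFlat M) :=
    ⟨fun o' _ => { toFun := fun s => (q.hom.app o').app ⊤ s
                   map_add' := fun a b => map_add _ a b
                   map_smul' := fun r a => Scheme.Modules.Hom.app_smul (q.hom.app o') r a },
      fun {_ _} _ _ e s => (StMod.Mod.mapTop_app q.hom e s).symm⟩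
  refine mem_range_of_cover η (D.cover o) y fun _ => ?_
  refine bc_induction (isBC_mapHom M (D.g o)) (P := fun z => z ∈ LinearMap.range (η.app (D.h o)))
    (Submodule.zero_mem _) (fun _ _ => Submodule.add_mem _) (fun b z => Submodule.smul_mem _ b ?_) _
  obtain ⟨s, rfl⟩ := h z
  exact ⟨E.obj.mapTop (D.g o) s, (StMod.Mod.mapTop_app q.hom (D.g o) s).symm⟩

/-- The resolution property. -/
theorem resolution [IsNoetherianRing Γ(sch 𝒳 D.ξ, ⊤)] (hA : HeredFlat Γ(sch 𝒳 D.ξ, ⊤)) :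
    (∀ F : StMod.QCoh 𝒳, F.obj.IsFinType →
        ∃ (E : StMod.QCoh 𝒳) (q : E ⟶ F), E.obj.IsLocFree ∧ E.obj.IsFinType ∧ StMod.Mod.IsSurj q.hom) ∧
      (∀ (M N : StMod.QCoh 𝒳) (a b : M ⟶ N),
        (∀ E : StMod.QCoh 𝒳, E.obj.IsLocFree → E.obj.IsFinType → ∀ φ : E ⟶ M, φ ≫ a = φ ≫ b) → a = b) := by
  refine ⟨fun F hF => ?_, fun M N a b h => ?_⟩
  · haveI : (F.obj.obj D.ξ).IsQuasicoherent := F.property.2 _
    haveI : SheafOfModules.IsFiniteType (R := (sch 𝒳 D.ξ).ringCatSheaf) (F.obj.obj D.ξ) := hF D.ξ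
    haveI : Module.Finite Γ(sch 𝒳 D.ξ, ⊤) Γ(F.obj.obj D.ξ, ⊤) :=
      CohBasics.Affine.finite_sections (isAffineOpen_top _)
    obtain ⟨n, m, hm⟩ := Module.Finite.exists_fin (R := Γ(sch 𝒳 D.ξ, ⊤)) (M := Γ(F.obj.obj D.ξ, ⊤))
    obtain ⟨E, q, h1, h2, h3⟩ := exists_vb D hA F m
    refine ⟨E, q, h1, h2, isSurj_of_chart D q fun t => ?_⟩
    have ht : t ∈ Submodule.span Γ(sch 𝒳 D.ξ, ⊤) (Set.range m) := hm ▸ Submodule.mem_top
    induction ht using Submodule.span_induction with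
    | mem z hz => obtain ⟨i, rfl⟩ := hz; exact h3 i
    | zero => exact ⟨0, map_zero _⟩
    | add z z' _ _ hz hz' =>
      obtain ⟨s, rfl⟩ := hz
      obtain ⟨s', rfl⟩ := hz'
      exact ⟨s + s', map_add _ s s'⟩
    | smul r z _ hz =>
      obtain ⟨s, rfl⟩ := hz
      exact ⟨r • s, Scheme.Modules.Hom.app_smul (q.hom.app D.ξ) r s⟩
  · rw [← sub_eq_zero]
    refine ObjectProperty.hom_ext _ (eq_zero_of_chart D _ fun s => ?_)
    obtain ⟨E, q, h1, h2, h3⟩ := exists_vb D hA M (n := 1) (fun _ => s)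
    obtain ⟨t, ht⟩ := h3 0
    have e := congrArg (fun v : E ⟶ N => (v.hom.app D.ξ).app ⊤ t) (h E h1 h2 q)
    rw [← ht]
    rw [show (a - b).hom = a.hom + -b.hom from sub_eq_add_neg a.hom b.hom, StMod.Mod.add_app, StMod.Mod.neg_app]
    show (a.hom.app D.ξ).app ⊤ _ + -((b.hom.app D.ξ).app ⊤ _) = 0
    exact add_neg_eq_zero.2 e

end Groth.Agent.H14.CovRes
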